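/-
The fixed points of the elements of a solvable group acting irreducibly and nontrivially on a
finite abelian `p`-group: their product is at most the square root of the largest possible one.

An element is compared with its translates by a minimal normal subgroup `A`: the coordinates along
the subgroups of index `r` of `A` are either moved, and then two disjoint sets of coordinates each
determine a fixed point, or fixed, and then two translates have no common fixed point.
-/
import Mathlib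
import Cfsg.Agent.Lib.Signalizer.Coprime
import Cfsg.Agent.Lib.Elementary

set_option autoImplicit false

namespace CfsgLib.PrimClass

open Cfsg

universe u

variable {W : Type u} [CommGroup W] [Finite W]

/-- The points fixed by all elements of a group of automorphisms. -/
def fixedBy (B : Subgroup (MulAut W)) : Subgroup W where
  carrier := {w | ∀ b ∈ B, b w = w}
  one_mem' := fun b _ => map_one b
  mul_mem' := fun {a c} ha hc b hb => by rw [map_mul, ha b hb, hc b hb]
  inv_mem' := fun {a} ha b hb => by rw [map_inv, ha b hb]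

/-- The points fixed by one automorphism. -/
def fixedElt (x : MulAut W) : Subgroup W where
  carrier := {w | x w = w}
  one_mem' := map_one x
  mul_mem' := fun {a c} ha hc => by
    show x (a * c) = a * c
    rw [map_mul, show x a = a from ha, show x c = c from hc]
  inv_mem' := fun {a} ha => by
    show x a⁻¹ = a⁻¹
    rw [map_inv, show x a = a from ha]

theorem mem_fixedElt {x : MulAut W} {w : W} : w ∈ fixedElt x ↔ x w = w := Iff.rfl

theorem pow_apply_of_fixed {x : MulAut W} {w : W} (h : x w = w) : ∀ n : ℕ, (x ^ n) w = w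
  | 0 => rfl
  | n + 1 => by rw [pow_succ, MulAut.mul_apply, h, pow_apply_of_fixed h n]

/-- A coprime elementary abelian group of automorphisms: the fixed points of its subgroups of
index at most `r` generate. -/
theorem span {r : ℕ} [Fact r.Prime] (A : Subgroup (MulAut W)) (hA : IsElementaryAbelian r A)
    (hcop : ¬ r ∣ Nat.card W) :
    (⨆ B : {B : Subgroup (MulAut W) // B ≤ A ∧ B.relIndex A ≤ r}, fixedBy (B : Subgroup (MulAut W))) = ⊤ := by
  set S := ⨆ B : {B : Subgroup (MulAut W) // B ≤ A ∧ B.relIndex A ≤ r}, fixedBy (B : Subgroup (MulAut W)) with hS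
  let φ : A →* MulAut W := A.subtype
  let i : W →* W ⋊[φ] A := SemidirectProduct.inl
  let j : A →* W ⋊[φ] A := SemidirectProduct.inr
  haveI : Finite (W ⋊[φ] A) := Finite.of_equiv _ SemidirectProduct.equivProd.symm
  have hij : ∀ (a : A) (w : W), j a * i w * (j a)⁻¹ = i ((a : MulAut W) w) := fun a w => by
    show SemidirectProduct.inr a * SemidirectProduct.inl w * (SemidirectProduct.inr a)⁻¹ = _
    rw [← map_inv SemidirectProduct.inr a]
    exact (SemidirectProduct.inl_aut a w).symm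
  have hA' : IsElementaryAbelian r j.range := by
    refine ⟨⟨⟨?_⟩⟩, ?_⟩
    · rintro ⟨_, a, rfl⟩ ⟨_, b, rfl⟩
      refine Subtype.ext ?_
      show j a * j b = j b * j a
      rw [← map_mul, ← map_mul, hA.1.is_comm.comm a b]
    · rintro _ ⟨a, rfl⟩
      rw [← map_pow, show a ^ r = 1 from Subtype.ext (hA.2 a a.2), map_one]
  have hK : ¬ r ∣ Nat.card i.range := by
    rwa [← Nat.card_congr (MonoidHom.ofInjective (SemidirectProduct.inl_injective (φ := φ))).toEquiv]
  have hAK : j.range ≤ Subgroup.normalizer (i.range : Set (W ⋊[φ] A)) := by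
    rintro _ ⟨a, rfl⟩
    rw [Subgroup.mem_normalizer_iff]
    intro x
    constructor
    · rintro ⟨w, rfl⟩; exact ⟨_, (hij a w).symm⟩
    · rintro ⟨w, hw⟩
      refine ⟨((a⁻¹ : A) : MulAut W) w, ?_⟩
      rw [← hij a⁻¹ w, hw, map_inv]; group
  have hgen := CfsgLib.Signalizer.gen_index hA' hK hAK
  have key : i.range ≤ S.map i := by
    conv_lhs => rw [hgen]
    refine iSup_le fun B => ?_
    rintro x ⟨⟨w, rfl⟩, hx⟩
    refine ⟨w, ?_, rfl⟩
    set B₀ : Subgroup (MulAut W) := ((B : Subgroup (W ⋊[φ] A)).comap j).map A.subtype with hB₀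
    have hle : B₀ ≤ A := Subgroup.map_subtype_le _
    have hidx : B₀.relIndex A ≤ r := by
      have h1 : B₀.subgroupOf A = (B : Subgroup (W ⋊[φ] A)).comap j :=
        Subgroup.comap_map_eq_self_of_injective A.subtype_injective _
      calc B₀.relIndex A = (B₀.subgroupOf A).index := rfl
        _ = (B : Subgroup (W ⋊[φ] A)).relIndex j.range := by rw [h1, Subgroup.index_comap]
        _ ≤ r := B.2.2
    refine Subgroup.mem_iSup_of_mem ⟨B₀, hle, hidx⟩ ?_
    rintro _ ⟨a, ha, rfl⟩
    have h := Subgroup.mem_centralizer_iff.1 hx (j a) ha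
    refine SemidirectProduct.inl_injective (φ := φ) ?_
    show i ((a : MulAut W) w) = i w
    rw [← hij, h, mul_inv_cancel_right]
  rw [eq_top_iff]
  intro w _
  obtain ⟨v, hv, hvw⟩ := key ⟨w, rfl⟩
  rwa [← SemidirectProduct.inl_injective (φ := φ) hvw]

/-- A set meeting every nontrivial cycle, whose complement does so too. -/
theorem exists_split {α : Type u} [Finite α] (σ : Equiv.Perm α) :
    ∃ S : α → Prop, (∀ H, σ H ≠ H → ∃ K n, σ K ≠ K ∧ S K ∧ (σ ^ (n : ℕ)) K = H) ∧
      (∀ H, σ H ≠ H → ∃ K n, σ K ≠ K ∧ ¬ S K ∧ (σ ^ (n : ℕ)) K = H) := by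
  let rep : α → α := fun H => (Quotient.mk (Equiv.Perm.SameCycle.setoid σ) H).out
  have hrep : ∀ H, σ.SameCycle (rep H) H := fun H => Quotient.mk_out (s := Equiv.Perm.SameCycle.setoid σ) H
  have hcongr : ∀ H K, σ.SameCycle H K → rep H = rep K := fun H K h => by
    show (Quotient.mk _ H).out = (Quotient.mk _ K).out
    rw [Quotient.sound (s := Equiv.Perm.SameCycle.setoid σ) h]
  have hmoved : ∀ {H K}, σ.SameCycle K H → σ H ≠ H → σ K ≠ K := by
    intro H K h hH hK
    have hKH := h.symm.apply_eq_self_iff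
    exact hH (hKH.2 hK)
  refine ⟨fun H => rep H = H, fun H hH => ?_, fun H hH => ?_⟩
  · obtain ⟨n, hn⟩ := (hrep H).exists_nat_pow_eq
    exact ⟨rep H, n, hmoved (hrep H) hH, hcongr _ _ (hrep H), hn⟩
  · have h1 : σ.SameCycle (σ (rep H)) (rep H) := Equiv.Perm.sameCycle_apply_left.2 (Equiv.Perm.SameCycle.refl σ _)
    have h2 : σ.SameCycle (σ (rep H)) H := h1.trans (hrep H)
    obtain ⟨n, hn⟩ := h2.exists_nat_pow_eq
    refine ⟨σ (rep H), n, hmoved h2 hH, fun h => ?_, hn⟩
    refine hmoved (hrep H) hH ?_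
    rw [← h, hcongr _ _ h2]

section Coset

variable {r : ℕ} [Fact r.Prime] {A : Subgroup (MulAut W)}

open scoped Classical in
/-- Over a coset of `A`, the fixed points fill at most half. -/
theorem coset_bound (hA : IsElementaryAbelian r A) (hcop : ¬ r ∣ Nat.card W)
    (hfix : fixedBy A = ⊥) (g : MulAut W) (hg : ∀ a ∈ A, g * a * g⁻¹ ∈ A) [Fintype A] :
    ∏ a : A, Nat.card (fixedElt (g * (a : MulAut W))) ^ 2 ≤ Nat.card W ^ Fintype.card A := by
  let ι := {H : Subgroup (MulAut W) // H ≤ A ∧ H.relIndex A = r}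
  haveI : Fintype ι := Fintype.ofFinite _
  haveI : Fintype W := Fintype.ofFinite _
  haveI : ∀ H : ι, Fintype (H : Subgroup (MulAut W)) := fun H => Fintype.ofFinite _
  let U : ι → Subgroup W := fun H => fixedBy (H : Subgroup (MulAut W))
  have hcomm : ∀ a ∈ A, ∀ b ∈ A, a * b = b * a := fun a ha b hb =>
    congrArg Subtype.val (hA.1.is_comm.comm ⟨a, ha⟩ ⟨b, hb⟩)
  -- two different subgroups of index `r` generate
  have hgenA : ∀ (H : ι) (z : MulAut W), z ∈ A → z ∉ (H : Subgroup (MulAut W)) →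
      (H : Subgroup (MulAut W)) ⊔ Subgroup.zpowers z = A := by
    intro H z hz hzH
    refine le_antisymm (sup_le H.2.1 (Subgroup.zpowers_le.2 hz)) ?_
    set T := (H : Subgroup (MulAut W)) ⊔ Subgroup.zpowers z with hT
    have hTA : T ≤ A := sup_le H.2.1 (Subgroup.zpowers_le.2 hz)
    have h1 := Subgroup.relIndex_mul_relIndex (H : Subgroup (MulAut W)) T A le_sup_left hTA
    rw [H.2.2] at h1
    rcases (Fact.out : r.Prime).eq_one_or_self_of_dvd _ (Dvd.intro _ h1) with h | h
    · exact absurd (Subgroup.relIndex_eq_one.1 h (Subgroup.mem_sup_right (Subgroup.mem_zpowers z))) hzH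
    · rw [h] at h1
      exact Subgroup.relIndex_eq_one.1 (mul_left_cancel₀ (Fact.out : r.Prime).ne_zero (h1.trans (mul_one r).symm))
  have hfixed_top : ∀ (H : ι) (z : MulAut W), z ∈ A → z ∉ (H : Subgroup (MulAut W)) →
      ∀ w ∈ U H, z w = w → w = 1 := by
    intro H z hz hzH w hw hzw
    have : w ∈ fixedBy A := by
      rw [← hgenA H z hz hzH]
      intro b hb
      have hle : (H : Subgroup (MulAut W)) ⊔ Subgroup.zpowers z ≤
          MulAction.stabilizer (MulAut W) w := sup_le (fun b hb => hw b hb) (Subgroup.zpowers_le.2 hzw)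
      exact hle hb
    rwa [hfix, Subgroup.mem_bot] at this
  -- the projections
  let N : ι → W →* W := fun H =>
    MonoidHom.mk' (fun w => ∏ h : (H : Subgroup (MulAut W)), (h : MulAut W) w) fun a b => by
      simp only [map_mul, Finset.prod_mul_distrib]
  have hN : ∀ H w, N H w = ∏ h : (H : Subgroup (MulAut W)), (h : MulAut W) w := fun H w => rfl
  have hNU : ∀ H w, N H w ∈ U H := by
    intro H w b hb
    rw [hN, map_prod]
    exact Fintype.prod_equiv (Equiv.mulLeft ⟨b, hb⟩) _ _ fun h => rfl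
  have hNself : ∀ H, ∀ w ∈ U H, N H w = w ^ Nat.card (H : Subgroup (MulAut W)) := by
    intro H w hw
    rw [hN, Finset.prod_congr rfl (fun h _ => hw _ h.2), Finset.prod_const, Finset.card_univ,
      Nat.card_eq_fintype_card]
  have hNother : ∀ H K : ι, H ≠ K → ∀ w ∈ U K, N H w = 1 := by
    intro H K hne w hw
    obtain ⟨z, hz, hzH⟩ : ∃ z ∈ (K : Subgroup (MulAut W)), z ∉ (H : Subgroup (MulAut W)) := by
      by_contra hcon
      push Not at hcon
      have h1 := Subgroup.relIndex_mul_relIndex (K : Subgroup (MulAut W)) H A hcon H.2.1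
      rw [K.2.2, H.2.2] at h1
      have h2 : (K : Subgroup (MulAut W)).relIndex H = 1 := by
        have := mul_right_cancel₀ (Fact.out : r.Prime).ne_zero (h1.trans (one_mul r).symm)
        exact this
      exact hne (Subtype.ext (le_antisymm (Subgroup.relIndex_eq_one.1 h2) hcon))
    refine hfixed_top H z (K.2.1 hz) hzH _ (hNU H w) ?_
    rw [hN, map_prod]
    refine Finset.prod_congr rfl fun h _ => ?_
    rw [← MulAut.mul_apply, hcomm z (K.2.1 hz) h (H.2.1 h.2), MulAut.mul_apply, hw z hz]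
  -- the decomposition
  let Ψ : (∀ H, U H) →* W := MonoidHom.mk' (fun c => ∏ H, (c H : W)) fun a b => by
    simp only [Pi.mul_apply, Subgroup.coe_mul, Finset.prod_mul_distrib]
  have hNΨ : ∀ c H, N H (Ψ c) = (c H : W) ^ Nat.card (H : Subgroup (MulAut W)) := by
    intro c H
    show N H (∏ K, (c K : W)) = _
    rw [map_prod, Finset.prod_eq_single H (fun K _ hK => hNother H K (Ne.symm hK) _ (c K).2)
      (fun h => absurd (Finset.mem_univ H) h), hNself H _ (c H).2]
  have hcopH : ∀ H : ι, (Nat.card W).Coprime (Nat.card (H : Subgroup (MulAut W))) := by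
    intro H
    have hHA : Nat.card (H : Subgroup (MulAut W)) ∣ Nat.card A := Subgroup.card_dvd_of_le H.2.1
    obtain ⟨k, hk⟩ := IsPGroup.iff_card.1 (CfsgLib.Signalizer.isPGroup_ea hA)
    rw [hk] at hHA
    exact (((Fact.out : r.Prime).coprime_iff_not_dvd.2 hcop).symm.pow_right k).coprime_dvd_right hHA
  have hpowinj : ∀ H : ι, Function.Injective fun w : W => w ^ Nat.card (H : Subgroup (MulAut W)) :=
    fun H => (powCoprime (hcopH H)).injective
  have hΨinj : Function.Injective Ψ := fun a b hab => funext fun H => Subtype.ext (hpowinj H (by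
    show (a H : W) ^ _ = (b H : W) ^ _
    rw [← hNΨ, ← hNΨ, hab]))
  have hΨsurj : Function.Surjective Ψ := by
    rw [← MonoidHom.range_eq_top, eq_top_iff, ← span A hA hcop]
    refine iSup_le fun B => ?_
    intro w hw
    by_cases hB : (B : Subgroup (MulAut W)) = A
    · rw [hB, hfix, Subgroup.mem_bot] at hw
      rw [hw]; exact one_mem _
    have hr : (B : Subgroup (MulAut W)).relIndex A = r := by
      obtain ⟨k, hk⟩ := IsPGroup.iff_card.1 (CfsgLib.Signalizer.isPGroup_ea hA)
      have h1 : (B : Subgroup (MulAut W)).relIndex A ∣ r ^ k := hk ▸ Subgroup.index_dvd_card _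
      obtain ⟨i, -, hi⟩ := (Nat.dvd_prime_pow Fact.out).1 h1
      have hle := B.2.2
      rw [hi] at hle ⊢
      rcases Nat.lt_trichotomy i 1 with h | h | h
      · exfalso
        rw [show i = 0 by omega, pow_zero] at hi
        exact hB (le_antisymm B.2.1 (Subgroup.relIndex_eq_one.1 hi))
      · rw [h, pow_one]
      · exfalso
        have : r ^ 1 < r ^ i := Nat.pow_lt_pow_right (Fact.out : r.Prime).one_lt h
        rw [pow_one] at this
        omega
    refine ⟨Pi.mulSingle ⟨(B : Subgroup (MulAut W)), B.2.1, hr⟩ ⟨w, hw⟩, ?_⟩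
    show ∏ H, ((Pi.mulSingle (M := fun H => U H) _ _ H : U H) : W) = w
    rw [Finset.prod_eq_single (⟨(B : Subgroup (MulAut W)), B.2.1, hr⟩ : ι)
      (fun K _ hK => by rw [Pi.mulSingle_eq_of_ne hK]; rfl) (fun h => absurd (Finset.mem_univ _) h),
      Pi.mulSingle_eq_same]
  have hcardW : Nat.card W = ∏ H, Nat.card (U H) := by
    rw [← Nat.card_congr (Equiv.ofBijective Ψ ⟨hΨinj, hΨsurj⟩), Nat.card_pi]
  have hcoord : ∀ f f' : W, (∀ H, N H f = N H f') → f = f' := by
    intro f f' h
    obtain ⟨c, rfl⟩ := hΨsurj f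
    obtain ⟨c', rfl⟩ := hΨsurj f'
    exact congrArg Ψ (funext fun H => Subtype.ext (hpowinj H (by
      show (c H : W) ^ _ = (c' H : W) ^ _
      rw [← hNΨ, ← hNΨ, h])))
  -- the permutation of the coordinates
  let cj : MulAut (MulAut W) := MulAut.conj g
  have hAmap : A.map cj.toMonoidHom = A := by
    refine Subgroup.eq_of_le_of_card_ge ?_ (Subgroup.card_map_of_injective cj.injective).ge
    rintro _ ⟨a, ha, rfl⟩
    exact hg a ha
  let σ₀ : ι → ι := fun H => ⟨(H : Subgroup (MulAut W)).map cj.toMonoidHom,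
    hAmap.le.trans' (Subgroup.map_mono H.2.1),
      (congrArg (fun B => ((H : Subgroup (MulAut W)).map cj.toMonoidHom).relIndex B) hAmap.symm).trans
        ((Subgroup.relIndex_map_map_of_injective _ _ cj.injective).trans H.2.2)⟩
  have hσ₀ : Function.Injective σ₀ := fun H K h =>
    Subtype.ext (Subgroup.map_injective (f := cj.toMonoidHom) cj.injective (congrArg Subtype.val h))
  let σ : Equiv.Perm ι := Equiv.ofBijective σ₀ (Finite.injective_iff_bijective.1 hσ₀)
  have hnat : ∀ (a : MulAut W), a ∈ A → ∀ H w, N (σ H) ((g * a) w) = (g * a) (N H w) := by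
    intro a ha H w
    rw [hN, hN, map_prod]
    refine Eq.symm ?_
    refine Finset.prod_bij (M := W)
      (fun (h : (H : Subgroup (MulAut W))) _ => (⟨g * (h : MulAut W) * g⁻¹, h, h.2, rfl⟩ :
        ((σ H : ι) : Subgroup (MulAut W))))
      (fun _ _ => Finset.mem_univ _)
      (fun a _ b _ hab => Subtype.ext (mul_left_cancel (mul_right_cancel (congrArg Subtype.val hab))))
      (fun b _ => ?_) (fun h _ => ?_)
    · obtain ⟨h, hh, hb⟩ := b.2
      exact ⟨⟨h, hh⟩, Finset.mem_univ _, Subtype.ext hb⟩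
    show (g * a) ((h : MulAut W) w) = (g * (h : MulAut W) * g⁻¹) ((g * a) w)
    rw [← MulAut.mul_apply, ← MulAut.mul_apply]
    congr 1
    rw [show g * (h : MulAut W) * g⁻¹ * (g * a) = g * ((h : MulAut W) * a) by group,
      hcomm _ (H.2.1 h.2) a ha, mul_assoc]
  have hNfix : ∀ (a : MulAut W), a ∈ A → ∀ w, (g * a) w = w → ∀ H,
      N (σ H) w = (g * a) (N H w) := fun a ha w hw H => by rw [← hnat a ha H w, hw]
  have hNpow : ∀ (a : MulAut W), a ∈ A → ∀ w, (g * a) w = w → ∀ (n : ℕ) H,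
      N ((σ ^ n) H) w = ((g * a) ^ n) (N H w) := by
    intro a ha w hw n
    induction n with
    | zero => intro H; rfl
    | succ n ih =>
      intro H
      rw [pow_succ', Equiv.Perm.mul_apply, hNfix a ha w hw, ih H, pow_succ']
      rfl
  obtain ⟨S, hS, hS'⟩ := exists_split σ
  let F : A → ι → ℕ := fun a H => Nat.card ↥(U H ⊓ fixedElt (g * (a : MulAut W)))
  let Fx : Finset ι := Finset.univ.filter fun H => σ H = H
  let M₁ : Finset ι := Finset.univ.filter fun H => σ H ≠ H ∧ S H
  let M₂ : Finset ι := Finset.univ.filter fun H => σ H ≠ H ∧ ¬ S H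
  have hbound : ∀ (a : A) (T : Finset ι), (∀ H, σ H ≠ H → ∃ K ∈ T, ∃ n : ℕ, (σ ^ n) K = H) →
      Nat.card (fixedElt (g * (a : MulAut W))) ≤ (∏ H ∈ T, Nat.card (U H)) * ∏ H ∈ Fx, F a H := by
    intro a T hT
    have key : Function.Injective fun f : fixedElt (g * (a : MulAut W)) =>
        ((fun H : T => (⟨N H f, hNU H f⟩ : U H)),
         (fun H : Fx => (⟨N H f, ⟨hNU H f, by
            have h := hNfix a a.2 f f.2 H
            rw [(Finset.mem_filter.1 H.2).2] at h
            exact h.symm⟩⟩ : ↥(U H ⊓ fixedElt (g * (a : MulAut W)))))) := by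
      intro f f' hff
      obtain ⟨h1, h2⟩ := Prod.ext_iff.1 hff
      refine Subtype.ext (hcoord _ _ fun H => ?_)
      by_cases hH : σ H = H
      · exact congrArg Subtype.val (congrFun h2 ⟨H, Finset.mem_filter.2 ⟨Finset.mem_univ H, hH⟩⟩)
      · obtain ⟨K, hK, n, hn⟩ := hT H hH
        rw [← hn, hNpow a a.2 f f.2, hNpow a a.2 f' f'.2,
          show N K (f : W) = N K (f' : W) from congrArg Subtype.val (congrFun h1 ⟨K, hK⟩)]
    refine (Nat.card_le_card_of_injective _ key).trans (le_of_eq ?_)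
    rw [Nat.card_prod, Nat.card_pi, Nat.card_pi, Finset.prod_coe_sort T fun H => Nat.card (U H),
      Finset.prod_coe_sort Fx fun H => F a H]
  have hsq : ∀ a : A, Nat.card (fixedElt (g * (a : MulAut W))) ^ 2 ≤
      ((∏ H ∈ M₁, Nat.card (U H)) * ∏ H ∈ M₂, Nat.card (U H)) * ∏ H ∈ Fx, F a H ^ 2 := by
    intro a
    have h1 := hbound a M₁ fun H hH => by
      obtain ⟨K, n, hK, hKS, hn⟩ := hS H hH
      exact ⟨K, Finset.mem_filter.2 ⟨Finset.mem_univ K, hK, hKS⟩, n, hn⟩
    have h2 := hbound a M₂ fun H hH => by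
      obtain ⟨K, n, hK, hKS, hn⟩ := hS' H hH
      exact ⟨K, Finset.mem_filter.2 ⟨Finset.mem_univ K, hK, hKS⟩, n, hn⟩
    rw [pow_two, Finset.prod_pow, pow_two, mul_mul_mul_comm]
    exact Nat.mul_le_mul h1 h2
  have hpair : ∀ H ∈ Fx, ∏ a : A, F a H ^ 2 ≤ Nat.card (U H) ^ Fintype.card A := by
    intro H _
    obtain ⟨z, hz, hzH⟩ : ∃ z ∈ A, z ∉ (H : Subgroup (MulAut W)) := by
      by_contra hcon
      push Not at hcon
      have h1 := H.2.2
      rw [Subgroup.relIndex_eq_one.2 hcon] at h1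
      exact (Fact.out : r.Prime).ne_one h1.symm
    have hle : ∀ a : A, F a H * F (a * ⟨z, hz⟩) H ≤ Nat.card (U H) := by
      intro a
      set a' := a * ⟨z, hz⟩
      have key : Function.Injective fun q : ↥(U H ⊓ fixedElt (g * (a : MulAut W))) ×
          ↥(U H ⊓ fixedElt (g * (a' : MulAut W))) => (⟨(q.1 : W) * q.2, mul_mem q.1.2.1 q.2.2.1⟩ : U H) := by
        rintro ⟨u, v⟩ ⟨u', v'⟩ h
        have h' : (u : W) * v = u' * v' := congrArg Subtype.val h
        set d : W := (u' : W)⁻¹ * u with hd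
        have hd' : d = (v' : W) * (v : W)⁻¹ := by
          rw [hd, eq_mul_inv_iff_mul_eq, mul_assoc, h', inv_mul_cancel_left]
        have hdU : d ∈ U H := mul_mem (inv_mem u'.2.1) u.2.1
        have hd1 : (g * (a : MulAut W)) d = d := mem_fixedElt.1 (mul_mem (inv_mem u'.2.2) u.2.2)
        have hd2 : (g * (a' : MulAut W)) d = d := by
          rw [hd']; exact mem_fixedElt.1 (mul_mem v'.2.2 (inv_mem v.2.2))
        have hzd : z d = d := by
          refine (g * (a : MulAut W)).injective ?_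
          rw [hd1]
          conv_rhs => rw [← hd2]
          show ((g * (a : MulAut W)) * z) d = _
          rw [mul_assoc]; rfl
        have hd0 := hfixed_top H z hz hzH d hdU hzd
        have hu : (u' : W) = u := inv_mul_eq_one.1 hd0
        have hv : (v' : W) = v := mul_inv_eq_one.1 (hd' ▸ hd0)
        exact Prod.ext (Subtype.ext hu.symm) (Subtype.ext hv.symm)
      have := Nat.card_le_card_of_injective _ key
      rwa [Nat.card_prod] at this
    calc ∏ a : A, F a H ^ 2 = (∏ a : A, F a H) * ∏ a : A, F (a * ⟨z, hz⟩) H := by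
          have he := Equiv.prod_comp (Equiv.mulRight (⟨z, hz⟩ : A)) (fun a => F a H)
          simp only [Equiv.coe_mulRight] at he
          rw [he, ← pow_two, Finset.prod_pow]
      _ = ∏ a : A, F a H * F (a * ⟨z, hz⟩) H := (Finset.prod_mul_distrib).symm
      _ ≤ ∏ _a : A, Nat.card (U H) := Finset.prod_le_prod' fun a _ => hle a
      _ = _ := by rw [Finset.prod_const, Finset.card_univ]
  have hWsplit : ((∏ H ∈ M₁, Nat.card (U H)) * ∏ H ∈ M₂, Nat.card (U H)) * ∏ H ∈ Fx, Nat.card (U H) =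
      Nat.card W := by
    rw [hcardW, ← Finset.prod_filter_mul_prod_filter_not Finset.univ (fun H => σ H ≠ H) fun H => Nat.card (U H),
      ← Finset.prod_filter_mul_prod_filter_not (Finset.univ.filter fun H => σ H ≠ H) S fun H => Nat.card (U H),
      Finset.filter_filter, Finset.filter_filter]
    congr 1
    refine Finset.prod_congr (Finset.ext fun H => ?_) fun _ _ => rfl
    simp [Fx]
  set P₀ := (∏ H ∈ M₁, Nat.card (U H)) * ∏ H ∈ M₂, Nat.card (U H) with hP₀
  calc ∏ a : A, Nat.card (fixedElt (g * (a : MulAut W))) ^ 2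
      ≤ ∏ a : A, P₀ * ∏ H ∈ Fx, F a H ^ 2 := Finset.prod_le_prod' fun a _ => hsq a
    _ = P₀ ^ Fintype.card A * ∏ H ∈ Fx, ∏ a : A, F a H ^ 2 := by
        rw [Finset.prod_mul_distrib, Finset.prod_const, Finset.card_univ, Finset.prod_comm]
    _ ≤ P₀ ^ Fintype.card A * ∏ H ∈ Fx, Nat.card (U H) ^ Fintype.card A :=
        Nat.mul_le_mul_left _ (Finset.prod_le_prod' hpair)
    _ = Nat.card W ^ Fintype.card A := by rw [Finset.prod_pow, ← mul_pow, hWsplit]

end Coset

/-- A group of automorphisms normal in an irreducible one and fixing a nontrivial point is trivial. -/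
theorem eq_bot_of_fixed {Γ A : Subgroup (MulAut W)} (hn : ∀ g ∈ Γ, ∀ a ∈ A, g⁻¹ * a * g ∈ A)
    (hirr : ∀ U : Subgroup W, (∀ x ∈ Γ, ∀ w ∈ U, x w ∈ U) → U = ⊥ ∨ U = ⊤) (h : fixedBy A ≠ ⊥) :
    A = ⊥ := by
  have hinv : ∀ g ∈ Γ, ∀ w ∈ fixedBy A, g w ∈ fixedBy A := by
    intro g hg w hw a ha
    calc a (g w) = g ((g⁻¹ * a * g) w) := by
          rw [← MulAut.mul_apply, ← MulAut.mul_apply]; congr 1; group
      _ = g w := by rw [hw _ (hn g hg a ha)]
  rw [Subgroup.eq_bot_iff_forall]
  intro a ha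
  have htop := (hirr _ hinv).resolve_left h
  ext w
  exact ((htop ▸ Subgroup.mem_top w : w ∈ fixedBy A)) a ha

/-- A `p`-group of automorphisms of a nontrivial `p`-group fixes a nontrivial point. -/
theorem fixedBy_ne_bot {p : ℕ} [Fact p.Prime] (hW : IsPGroup p W) [Nontrivial W]
    {A : Subgroup (MulAut W)} (hA : IsPGroup p A) : fixedBy A ≠ ⊥ := by
  have hmod := hA.card_modEq_card_fixedPoints W
  obtain ⟨k, hk⟩ := IsPGroup.iff_card.1 hW
  have hk0 : k ≠ 0 := by
    intro h
    have := Finite.one_lt_card (α := W)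
    rw [hk, h, pow_zero] at this
    omega
  have h1 : p ∣ Nat.card (MulAction.fixedPoints A W) :=
    (Nat.ModEq.dvd_iff hmod dvd_rfl).1 (hk ▸ dvd_pow_self p hk0)
  intro hbot
  have h2 : MulAction.fixedPoints A W = {1} := by
    refine Set.eq_singleton_iff_unique_mem.2 ⟨fun a => map_one (a : MulAut W), fun w hw => ?_⟩
    have : w ∈ fixedBy A := fun b hb => hw ⟨b, hb⟩
    rwa [hbot, Subgroup.mem_bot] at this
  rw [h2, Nat.card_eq_one_iff_unique.2 ⟨inferInstance, ⟨⟨1, rfl⟩⟩⟩] at h1
  exact (Fact.out : p.Prime).not_dvd_one h1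

/-- A solvable group acting irreducibly and nontrivially on an abelian `p`-group. -/
theorem prod_fixed_le {p : ℕ} [hp : Fact p.Prime] {G : Type u} [Group G] [Fintype G] [Group.IsSolvable G]
    (hW : IsPGroup p W) [Nontrivial W] (ρ : G →* MulAut W)
    (hirr : ∀ U : Subgroup W, (∀ x : G, ∀ w ∈ U, ρ x w ∈ U) → U = ⊥ ∨ U = ⊤) (hne : ρ.range ≠ ⊥) :
    ∏ g : G, Nat.card (fixedElt (ρ g)) ^ 2 ≤ Nat.card W ^ Fintype.card G := by
  classical
  haveI : Group.IsSolvable ρ.range := Group.isSolvable_of_surjective (f := ρ.rangeRestrict) ρ.rangeRestrict_surjective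
  haveI : Nontrivial ρ.range := (Subgroup.nontrivial_iff_ne_bot _).2 hne
  obtain ⟨A₀, hA₀n, -, hA₀0, hA₀min⟩ := CfsgLib.exists_minimal_normal (N := (⊤ : Subgroup ρ.range)) top_ne_bot
  haveI := hA₀n
  obtain ⟨hA₀c, r, hr, hA₀r⟩ := CfsgLib.minimal_normal_elementary hA₀0 inferInstance hA₀min
  haveI := Fact.mk hr
  set A := A₀.map ρ.range.subtype with hAdef
  have hA : IsElementaryAbelian r A := by
    refine ⟨⟨⟨?_⟩⟩, ?_⟩
    · rintro ⟨_, a, ha, rfl⟩ ⟨_, b, hb, rfl⟩
      exact Subtype.ext (congrArg (fun x : A₀ => ((x : ρ.range) : MulAut W)) (hA₀c.is_comm.comm ⟨a, ha⟩ ⟨b, hb⟩))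
    · rintro _ ⟨a, ha, rfl⟩
      rw [← map_pow, hA₀r a ha, map_one]
  have hAn : ∀ g ∈ ρ.range, ∀ a ∈ A, g * a * g⁻¹ ∈ A := by
    rintro g hg _ ⟨a, ha, rfl⟩
    exact ⟨⟨g, hg⟩ * a * ⟨g, hg⟩⁻¹, hA₀n.conj_mem a ha _, rfl⟩
  have hA0 : A ≠ ⊥ := by rwa [hAdef, Ne, Subgroup.map_eq_bot_iff_of_injective _ ρ.range.subtype_injective]
  have hAn' : ∀ g ∈ ρ.range, ∀ a ∈ A, g⁻¹ * a * g ∈ A := fun g hg a ha => by
    simpa using hAn g⁻¹ (inv_mem hg) a ha
  have hirr' : ∀ U : Subgroup W, (∀ x ∈ ρ.range, ∀ w ∈ U, x w ∈ U) → U = ⊥ ∨ U = ⊤ := fun U hU =>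
    hirr U fun x => hU _ ⟨x, rfl⟩
  have hfix : fixedBy A = ⊥ := by
    by_contra h
    exact hA0 (eq_bot_of_fixed hAn' hirr' h)
  have hrp : r ≠ p := by
    rintro rfl
    exact fixedBy_ne_bot hW (CfsgLib.Signalizer.isPGroup_ea hA) hfix
  have hcop : ¬ r ∣ Nat.card W := by
    obtain ⟨k, hk⟩ := IsPGroup.iff_card.1 hW
    rw [hk]
    exact fun h => hrp ((Nat.prime_dvd_prime_iff_eq hr hp.out).1 (hr.dvd_of_dvd_pow h))
  haveI : Fintype A := Fintype.ofFinite A
  set f : MulAut W → ℕ := fun x => Nat.card (fixedElt x) ^ 2 with hf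
  have key : (∏ g : G, f (ρ g)) ^ Fintype.card A = ∏ g : G, ∏ a : A, f (ρ g * (a : MulAut W)) := by
    rw [Finset.prod_comm, ← Finset.card_univ (α := A), ← Finset.prod_const]
    refine Finset.prod_congr rfl fun a _ => ?_
    obtain ⟨h, hh⟩ : (a : MulAut W) ∈ ρ.range := Subgroup.map_subtype_le _ a.2
    refine (Fintype.prod_equiv (Equiv.mulRight h) _ _ fun g => ?_).symm
    rw [← hh, ← map_mul]; rfl
  refine (Nat.pow_le_pow_iff_left (Fintype.card_ne_zero (α := A))).1 ?_
  show (∏ g : G, f (ρ g)) ^ _ ≤ _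
  rw [key, ← pow_mul, mul_comm, pow_mul, ← Finset.card_univ (α := G), ← Finset.prod_const]
  exact Finset.prod_le_prod' fun g _ => coset_bound hA hcop hfix (ρ g) (hAn _ ⟨g, rfl⟩)

end CfsgLib.PrimClass
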