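/-
The degree of a primitive character of a solvable group and class sizes.

Along a chief series the restrictions of a primitive character are multiples of invariant irreducible
characters, so the degree grows over an abelian chief factor by at most the square root of its order,
and not at all over a factor of prime order.  A chief factor that is not central is moved by the
average element by at least the square root of its order, so some element has a class whose size
takes up all of the `p`-part of the degree.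
-/
import Mathlib
import Cfsg.Agent.Lib.PrimClass.FixedSpace
import Cfsg.Agent.Lib.Basic
import Cfsg.Agent.Lib.Elementary
import Cfsg.Agent.Lib.CharTheory.ExtCriteria
import Cfsg.Agent.Lib.CharTheory.More
import Cfsg.Agent.Lib.CharTheory.InducedQuasiPrim
import Cfsg.Agent.Lib.TIHall.Basic

set_option autoImplicit false

namespace CfsgLib.PrimClass

open Cfsg CfsgLib.CharTheory
open scoped ComplexConjugate

universe u

variable {G : Type u} [Group G]

/-- A chief factor of exponent dividing `p`. -/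
structure IsChief (p : ℕ) (N M : Subgroup G) : Prop where
  lower : N.Normal
  upper : M.Normal
  le : N ≤ M
  ne : N ≠ M
  chief : ∀ U : Subgroup G, U.Normal → N ≤ U → U ≤ M → U = N ∨ U = M
  pow : ∀ x ∈ M, x ^ p ∈ N
  comm : ∀ a ∈ M, ∀ b ∈ M, a * b * a⁻¹ * b⁻¹ ∈ N

/-- The elements centralising all chief factors of exponent dividing `p`. -/
def actKer (p : ℕ) : Subgroup G where
  carrier := {k | ∀ N M : Subgroup G, IsChief p N M → ∀ m ∈ M, k * m * k⁻¹ * m⁻¹ ∈ N}
  one_mem' := fun N M _ m _ => by simp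
  mul_mem' := fun {a b} ha hb N M h m hm => by
    have h1 := h.lower.conj_mem _ (hb N M h m hm) a
    have h2 := ha N M h m hm
    have := N.mul_mem h1 h2
    simpa [mul_assoc] using this
  inv_mem' := fun {a} ha N M h m hm => by
    have hm' : a⁻¹ * m * a ∈ M := by simpa using h.upper.conj_mem m hm a⁻¹
    have := N.inv_mem (ha N M h _ hm')
    simpa [mul_assoc] using this

instance actKer_normal (p : ℕ) : (actKer p : Subgroup G).Normal := ⟨fun k hk g N M h m hm => by
  have hm' : g⁻¹ * m * g ∈ M := by simpa using h.upper.conj_mem m hm g⁻¹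
  have := h.lower.conj_mem _ (hk N M h _ hm') g
  simpa [mul_assoc] using this⟩

section Step

variable {p : ℕ} {N M : Subgroup G}

/-- Everything needed about one chief factor: the action of `G` on it. -/
theorem chief_model [Finite G] [hp : Fact p.Prime] (h : IsChief p N M) :
    ∃ (W : Type u) (_ : CommGroup W) (_ : Finite W) (ρ : G →* MulAut W), Nontrivial W ∧ IsPGroup p W ∧
      Nat.card W = N.relIndex M ∧
      (∀ U : Subgroup W, (∀ x : G, ∀ w ∈ U, ρ x w ∈ U) → U = ⊥ ∨ U = ⊤) ∧
      (∀ g : G, ρ g = 1 ↔ ∀ m ∈ M, g * m * g⁻¹ * m⁻¹ ∈ N) ∧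
      (∀ g : G, Nat.card ↥(M ⊓ Subgroup.centralizer ({g} : Set G)) ∣
        Nat.card ↥(N ⊓ Subgroup.centralizer ({g} : Set G)) * Nat.card (fixedElt (ρ g))) := by
  classical
  haveI := h.lower
  haveI := h.upper
  set f := QuotientGroup.mk' N with hf
  have hsurj : Function.Surjective f := QuotientGroup.mk'_surjective N
  set W := M.map f with hWdef
  haveI : W.Normal := h.upper.map f hsurj
  have hc : ∀ a b : W, a * b = b * a := by
    rintro ⟨_, a, ha, rfl⟩ ⟨_, b, hb, rfl⟩
    refine Subtype.ext ?_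
    show f a * f b = f b * f a
    have h1 : f (a * b * a⁻¹ * b⁻¹) = 1 := (QuotientGroup.eq_one_iff _).2 (h.comm a ha b hb)
    rw [map_mul, map_mul, map_mul, map_inv, map_inv, mul_inv_eq_one, mul_inv_eq_iff_eq_mul] at h1
    exact h1
  let inst : CommGroup W := { (inferInstance : Group W) with mul_comm := hc }
  let ρ : G →* MulAut W := MulAut.conjNormal.comp f
  have hρ : ∀ (g : G) (w : W), ((ρ g w : W) : G ⧸ N) = f g * w * (f g)⁻¹ := fun g w => rfl
  have hker : f.ker = N := QuotientGroup.ker_mk' N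
  have hcard : Nat.card W = N.relIndex M := by
    have h1 := Subgroup.relIndex_ker M f
    rw [hker] at h1
    exact h1.symm
  refine ⟨W, inst, inferInstance, ρ, ?_, ?_, hcard, ?_, ?_, ?_⟩
  · rw [Subgroup.nontrivial_iff_ne_bot, hWdef, Ne, Subgroup.map_eq_bot_iff, hker]
    exact fun h' => h.ne (le_antisymm h.le h')
  · rintro ⟨_, m, hm, rfl⟩
    refine ⟨1, Subtype.ext ?_⟩
    show (f m) ^ p ^ 1 = 1
    rw [pow_one, ← map_pow]
    exact (QuotientGroup.eq_one_iff _).2 (h.pow m hm)
  · intro U hU
    set U' := (U.map W.subtype).comap f with hU'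
    have hU'n : U'.Normal := ⟨fun x hx g => by
      obtain ⟨w, hw, hwx⟩ := hx
      refine ⟨ρ g w, hU g w hw, ?_⟩
      show ((ρ g w : W) : G ⧸ N) = f (g * x * g⁻¹)
      rw [hρ, map_mul, map_mul, map_inv]
      congr 2⟩
    have hNU : N ≤ U' := fun x hx => ⟨1, one_mem _, ((QuotientGroup.eq_one_iff x).2 hx).symm⟩
    have hUM : U' ≤ M := by
      rintro x ⟨⟨_, m, hm, rfl⟩, -, hwx⟩
      have h1 : m⁻¹ * x ∈ N := by
        rw [← QuotientGroup.eq]; exact hwx
      simpa using M.mul_mem hm (h.le h1)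
    rcases h.chief U' hU'n hNU hUM with h1 | h1
    · left
      rw [Subgroup.eq_bot_iff_forall]
      rintro ⟨_, m, hm, rfl⟩ hw
      have : m ∈ U' := ⟨_, hw, rfl⟩
      rw [h1] at this
      exact Subtype.ext ((QuotientGroup.eq_one_iff m).2 this)
    · right
      rw [Subgroup.eq_top_iff']
      rintro ⟨_, m, hm, rfl⟩
      obtain ⟨w, hw, hwm⟩ : m ∈ U' := h1 ▸ hm
      rwa [show (⟨f m, m, hm, rfl⟩ : W) = w from Subtype.ext hwm.symm]
  · intro g
    constructor
    · intro hg m hm
      have h1 : f g * f m * (f g)⁻¹ = f m := by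
        rw [← hρ g ⟨f m, m, hm, rfl⟩, hg]; rfl
      refine (QuotientGroup.eq_one_iff _).1 ?_
      show f (g * m * g⁻¹ * m⁻¹) = 1
      rw [map_mul, map_mul, map_mul, map_inv, map_inv, h1, mul_inv_cancel]
    · intro hg
      ext ⟨_, m, hm, rfl⟩
      show f g * f m * (f g)⁻¹ = f m
      have h1 : f (g * m * g⁻¹ * m⁻¹) = 1 := (QuotientGroup.eq_one_iff _).2 (hg m hm)
      rwa [map_mul, map_mul, map_mul, map_inv, map_inv, mul_inv_eq_one] at h1
  · intro g
    set C := Subgroup.centralizer ({g} : Set G) with hC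
    let φ : ↥(M ⊓ C) →* W := (f.comp (M ⊓ C).subtype).codRestrict W fun x => ⟨x, x.2.1, rfl⟩
    have hrange : φ.range ≤ fixedElt (ρ g) := by
      rintro _ ⟨x, rfl⟩
      refine mem_fixedElt.2 (Subtype.ext ?_)
      show f g * f x * (f g)⁻¹ = f x
      rw [← map_mul, Subgroup.mem_centralizer_singleton_iff.1 x.2.2 |>.symm, map_mul, mul_inv_cancel_right]
    have hφker : Nat.card φ.ker = Nat.card ↥(N ⊓ C) :=
      Nat.card_congr
        { toFun := fun x => ⟨(x.1 : G), (QuotientGroup.eq_one_iff _).1 (congrArg Subtype.val x.2), x.1.2.2⟩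
          invFun := fun x => ⟨⟨x, h.le x.2.1, x.2.2⟩, Subtype.ext ((QuotientGroup.eq_one_iff _).2 x.2.1)⟩
          left_inv := fun x => rfl
          right_inv := fun x => rfl }
    rw [Subgroup.card_eq_card_quotient_mul_card_subgroup φ.ker, hφker,
      Nat.card_congr (QuotientGroup.quotientKerEquivRange φ).toEquiv, mul_comm]
    exact Nat.mul_dvd_mul_left _ (Subgroup.card_dvd_of_le hrange)

end Step

section Numbers

variable [Finite G] {p : ℕ} [Fact p.Prime]

/-- `p`-adic gain of the class over one chief factor. -/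
theorem relIndex_gain (N M : Subgroup G) (hNM : N ≤ M) (g : G) {w c : ℕ} (hw : N.relIndex M = p ^ w) (hcw : c ≤ w)
    (hdvd : Nat.card ↥(M ⊓ Subgroup.centralizer ({g} : Set G)) ∣
      Nat.card ↥(N ⊓ Subgroup.centralizer ({g} : Set G)) * p ^ c) :
    ((Subgroup.centralizer ({g} : Set G)).relIndex N).factorization p + (w - c) ≤
      ((Subgroup.centralizer ({g} : Set G)).relIndex M).factorization p := by
  set C := Subgroup.centralizer ({g} : Set G)
  have key : ∀ H : Subgroup G, Nat.card H = Nat.card ↥(H ⊓ C) * C.relIndex H := fun H => by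
    rw [← (C.subgroupOf H).card_mul_index, ← Subgroup.relIndex]
    congr 1
    rw [← Subgroup.inf_subgroupOf_right C H, inf_comm H C]
    exact Nat.card_congr (Subgroup.subgroupOfEquivOfLe (inf_le_right : C ⊓ H ≤ H)).toEquiv
  have hM : Nat.card M = Nat.card N * p ^ w := by
    rw [← hw, ← (N.subgroupOf M).card_mul_index, Nat.card_congr (Subgroup.subgroupOfEquivOfLe hNM).toEquiv]
    rfl
  have hne : ∀ H : Subgroup G, C.relIndex H ≠ 0 := fun H => Subgroup.index_ne_zero_of_finite
  have hp0 : p ≠ 0 := (Fact.out : p.Prime).ne_zero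
  have hfp : ∀ n : ℕ, (p ^ n).factorization p = n := fun n => by
    rw [Nat.factorization_pow, Finsupp.smul_apply, (Fact.out : p.Prime).factorization_self, smul_eq_mul, mul_one]
  have hd := (Nat.factorization_le_iff_dvd (Nat.card_pos (α := ↥(M ⊓ C))).ne'
    (Nat.mul_ne_zero Nat.card_pos.ne' (pow_ne_zero c hp0))).2 hdvd p
  rw [Nat.factorization_mul Nat.card_pos.ne' (pow_ne_zero c hp0), Finsupp.add_apply, hfp] at hd
  rw [key M, key N] at hM
  have e : (_ : ℕ →₀ ℕ) p = (_ : ℕ →₀ ℕ) p := congrArg (fun n => n.factorization p) hM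
  rw [Nat.factorization_mul Nat.card_pos.ne' (hne M),
    Nat.factorization_mul (Nat.mul_ne_zero Nat.card_pos.ne' (hne N)) (pow_ne_zero w hp0),
    Nat.factorization_mul Nat.card_pos.ne' (hne N)] at e
  simp only [Finsupp.add_apply, hfp] at e
  omega

end Numbers

section Main

variable [Fintype G]

/-- A primitive character is quasiprimitive. -/
theorem quasiprimitive {χ : G → ℂ} (hχ : IsIrrCharacter G χ)
    (hprim : ¬ ∃ (H : Subgroup G), H ≠ ⊤ ∧ ∃ θ : H → ℂ, IsCharacter H θ ∧ indFun H θ = χ)
    (N : Subgroup G) [N.Normal] :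
    ∃ (θ : N → ℂ) (e : ℕ), IsIrrCharacter N θ ∧ (fun n : N => χ n) = (e : ℂ) • θ := by
  classical
  obtain ⟨θ, hθ, hc⟩ := exists_constituent (isCharacter_restrict (isCharacter_of_irr hχ) N)
    fun h => irr_ne_zero hχ (congrFun h 1)
  set T := inertia N θ with hT
  haveI : Fintype T := Fintype.ofFinite T
  by_cases h : T = ⊤
  · have h1 := clifford_invariant N hχ hθ hc fun g => by
      rw [← mem_inertia N, ← hT, h]; exact Subgroup.mem_top g
    obtain ⟨e, he⟩ := classInner_char_nat (isCharacter_restrict (isCharacter_of_irr hχ) N) (isCharacter_of_irr hθ)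
    exact ⟨θ, e, hθ, h1.trans (by rw [he])⟩
  · obtain ⟨ψ, hψ, -, he⟩ := exists_clifford_pre N hθ (le_inertia N (isClassFunction_irr hθ)) rfl hχ hc
    exact absurd ⟨T, h, ψ, isCharacter_of_irr hψ, he⟩ hprim

/-- The degree ratio over a normal subgroup on which an irreducible character is homogeneous. -/
theorem ratio {M : Type u} [Group M] [Fintype M] (K : Subgroup M) [K.Normal] [Fintype K] {θ : M → ℂ}
    (hθ : IsIrrCharacter M θ) {φ : K → ℂ} (hφ : IsIrrCharacter K φ) {c : ℂ}
    (h : (fun k : K => θ k) = c • φ) :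
    ∃ s : ℕ, θ 1 = s * φ 1 ∧ s ∣ K.index ∧ s * s ≤ K.index := by
  have hc : c ≠ 0 := fun h0 => irr_ne_zero hθ (by simpa [h0] using congrFun h 1)
  obtain ⟨s, hs, hdvd⟩ := degree_ratio_dvd hθ hφ (by
    rw [h, classInner_smul_left, classInner_irr_self hφ, mul_one]; exact hc)
  refine ⟨s, hs, hdvd, ?_⟩
  have hcs : c = (s : ℂ) := by
    have h1 := congrFun h 1
    simp only [Pi.smul_apply, smul_eq_mul, OneMemClass.coe_one] at h1
    exact (mul_right_cancel₀ (irr_ne_zero hφ) (hs.symm.trans h1)).symm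
  have hnorm : ∀ {L : Type u} [Group L] [Fintype L] {ψ : L → ℂ}, IsIrrCharacter L ψ →
      ∑ l : L, Complex.normSq (ψ l) = Nat.card L := by
    intro L _ _ ψ hψ
    have h1 := classInner_irr_self hψ
    simp only [classInner, Complex.mul_conj] at h1
    rw [inv_mul_eq_one₀ (Nat.cast_ne_zero.2 Nat.card_pos.ne')] at h1
    exact_mod_cast h1.symm
  have hle : ∑ k : K, Complex.normSq (θ k) ≤ ∑ m : M, Complex.normSq (θ m) := by
    classical
    refine (Finset.sum_map Finset.univ (Function.Embedding.subtype fun m => m ∈ K)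
      fun m => Complex.normSq (θ m)).symm.trans_le ?_
    exact Finset.sum_le_univ_sum_of_nonneg fun m => Complex.normSq_nonneg _
  rw [hnorm hθ, Finset.sum_congr rfl (g := fun k : K => (s : ℝ) * s * Complex.normSq (φ k)) fun k _ => by
    rw [show θ k = (s : ℂ) * φ k from hcs ▸ congrFun h k, map_mul, Complex.normSq_natCast],
    ← Finset.mul_sum, hnorm hφ, ← K.card_mul_index] at hle
  have : s * s * Nat.card K ≤ Nat.card K * K.index := by exact_mod_cast hle
  exact Nat.le_of_mul_le_mul_right (by rw [mul_comm K.index]; exact this) Nat.card_pos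

variable [Group.IsSolvable G] {p : ℕ} [hp : Fact p.Prime]

/-- One chief factor. -/
theorem chief_gain {N M : Subgroup G} (h : IsChief p N M) :
    ∃ (w : ℕ) (d : G → ℕ), N.relIndex M = p ^ w ∧ (∀ g, ∀ k ∈ (actKer p : Subgroup G), d (g * k) = d g) ∧
      (∀ g, ((Subgroup.centralizer ({g} : Set G)).relIndex N).factorization p + d g ≤
        ((Subgroup.centralizer ({g} : Set G)).relIndex M).factorization p) ∧
      (w ≤ 1 ∨ Fintype.card G * w ≤ 2 * ∑ g, d g) := by
  classical
  obtain ⟨W, _, _, ρ, hnt, hWp, hcard, hirr, hker, hdvd⟩ := chief_model h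
  obtain ⟨w, hw⟩ := IsPGroup.iff_card.1 hWp
  have hp1 := hp.out.one_lt
  choose c hc using fun g => IsPGroup.iff_card.1 (hWp.to_subgroup (fixedElt (ρ g)))
  have hcw : ∀ g, c g ≤ w := fun g => by
    refine (Nat.pow_dvd_pow_iff_le_right hp1).1 ?_
    rw [← hc, ← hw]; exact Subgroup.card_subgroup_dvd_card _
  refine ⟨w, fun g => w - c g, hcard.symm.trans hw, fun g k hk => ?_, fun g => ?_, ?_⟩
  · have : ρ (g * k) = ρ g := by rw [map_mul, (hker k).2 fun m hm => hk N M h m hm, mul_one]
    have hcc : c (g * k) = c g := Nat.pow_right_injective hp.out.two_le (by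
      show p ^ c (g * k) = p ^ c g
      rw [← hc, ← hc, this])
    simp only [hcc]
  · exact relIndex_gain N M h.le g (hcard.symm.trans hw) (hcw g) (hc g ▸ hdvd g)
  · by_cases hne : ρ.range = ⊥
    · left
      have htriv : ∀ g, ρ g = 1 := fun g => Subgroup.mem_bot.1 (hne ▸ ⟨g, rfl⟩)
      obtain ⟨x, hx⟩ := exists_ne (1 : W)
      have hU := (hirr (Subgroup.zpowers x) fun g v hv => by rw [htriv g]; exact hv).resolve_left fun h' => hx (by
        simpa using (Subgroup.zpowers_eq_bot.1 h'))
      obtain ⟨y, hy⟩ := exists_prime_orderOf_dvd_card' (G := W) p (hw ▸ dvd_pow_self p (fun h' => by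
        have := Finite.one_lt_card (α := W); rw [hw, h', pow_zero] at this; omega))
      have hy1 : y ≠ 1 := fun h' => hp.out.ne_one (by rw [← hy, h', orderOf_one])
      have hU' := (hirr (Subgroup.zpowers y) fun g v hv => by rw [htriv g]; exact hv).resolve_left fun h' =>
        hy1 (Subgroup.zpowers_eq_bot.1 h')
      have : p ^ w = p ^ 1 := by
        rw [← hw, pow_one, ← hy, ← Nat.card_zpowers, hU', Subgroup.card_top]
      exact (Nat.pow_right_injective hp.out.two_le this).le
    · right
      have hb := prod_fixed_le hWp ρ hirr hne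
      rw [Finset.prod_congr rfl (g := fun g => p ^ (2 * c g)) fun g _ => by rw [hc g, ← pow_mul, mul_comm],
        Finset.prod_pow_eq_pow_sum, hw, ← pow_mul] at hb
      have h2 : ∑ g, 2 * c g ≤ w * Fintype.card G := (Nat.pow_le_pow_iff_right hp1).1 hb
      have h3 : ∑ g, (w - c g) + ∑ g, c g = Fintype.card G * w := by
        rw [← Finset.sum_add_distrib, Finset.sum_congr rfl (g := fun _ => w) fun g _ => Nat.sub_add_cancel (hcw g),
          Finset.sum_const, Finset.card_univ, smul_eq_mul]
      rw [← Finset.mul_sum, mul_comm w] at h2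
      show _ ≤ 2 * ∑ g, (w - c g)
      omega

/-- The main induction. -/
theorem gain {χ : G → ℂ} (hχ : IsIrrCharacter G χ)
    (hqp : ∀ (N : Subgroup G), N.Normal →
      ∃ (θ : N → ℂ) (e : ℕ), IsIrrCharacter N θ ∧ (fun n : N => χ n) = (e : ℂ) • θ) :
    ∀ (M : Subgroup G), M.Normal → ∀ (θ : M → ℂ) (e : ℕ), IsIrrCharacter M θ →
      (fun m : M => χ m) = (e : ℂ) • θ →
      ∃ L : G → ℕ, (∀ g, ∀ k ∈ (actKer p : Subgroup G), L (g * k) = L g) ∧
        (∀ g, L g ≤ ((Subgroup.centralizer ({g} : Set G)).relIndex M).factorization p) ∧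
        Fintype.card G * (charDegree θ).factorization p ≤ ∑ g, L g := by
  classical
  intro M
  induction hn : Nat.card M using Nat.strong_induction_on generalizing M with
  | _ n ih =>
  subst hn
  intro hM θ e hθ he
  haveI := hM
  haveI : Fintype M := Fintype.ofFinite M
  by_cases hbot : M = ⊥
  · refine ⟨fun _ => 0, fun _ _ _ => rfl, fun _ => Nat.zero_le _, ?_⟩
    have h1 : charDegree θ ∣ Nat.card M :=
      (charDegree_dvd_index_kernel hθ).trans (Subgroup.index_dvd_card _)
    have h2 : Nat.card M = 1 := by subst hbot; exact Subgroup.card_bot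
    rw [h2, Nat.dvd_one] at h1
    simp [h1]
  let Below : Finset (Subgroup G) := Finset.univ.filter fun N => N.Normal ∧ N < M
  obtain ⟨N, hN, hNmax⟩ := Below.exists_max_image (fun N => Nat.card N) ⟨⊥, by
    simp only [Below, Finset.mem_filter, Finset.mem_univ, true_and]
    exact ⟨inferInstance, bot_lt_iff_ne_bot.2 hbot⟩⟩
  simp only [Below, Finset.mem_filter, Finset.mem_univ, true_and] at hN hNmax
  obtain ⟨hNn, hNM⟩ := hN
  haveI := hNn
  haveI : Fintype N := Fintype.ofFinite N
  have hchief : ∀ U : Subgroup G, U.Normal → N ≤ U → U ≤ M → U = N ∨ U = M := fun U hU h1 h2 => by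
    rcases eq_or_ne U M with h | h
    · exact Or.inr h
    · exact Or.inl (Subgroup.eq_of_le_of_card_ge h1 (hNmax U ⟨hU, lt_of_le_of_ne h2 h⟩)).symm
  obtain ⟨r, hr, hC⟩ : ∃ r : ℕ, r.Prime ∧ IsChief r N M := by
    set f := QuotientGroup.mk' N with hf
    haveI : (M.map f).Normal := hM.map f (QuotientGroup.mk'_surjective N)
    have hW0 : M.map f ≠ ⊥ := by
      rw [Ne, Subgroup.map_eq_bot_iff, hf, QuotientGroup.ker_mk']; exact hNM.not_ge
    have hmin : ∀ V : Subgroup (G ⧸ N), V.Normal → V ≤ M.map f → V = ⊥ ∨ V = M.map f := by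
      intro V hV hle
      have h1 : N ≤ V.comap f := fun x hx => by
        rw [Subgroup.mem_comap, hf, QuotientGroup.mk'_apply, (QuotientGroup.eq_one_iff x).2 hx]; exact one_mem V
      have h2 : V.comap f ≤ M := by
        refine (Subgroup.comap_mono hle).trans ?_
        rw [Subgroup.comap_map_eq, hf, QuotientGroup.ker_mk', sup_eq_left.2 hNM.le]
      rcases hchief _ (hV.comap f) h1 h2 with h | h
      · left
        rw [← Subgroup.map_comap_eq_self_of_surjective (QuotientGroup.mk'_surjective N) V, ← hf, h, hf,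
          QuotientGroup.map_mk'_self]
      · right
        rw [← Subgroup.map_comap_eq_self_of_surjective (QuotientGroup.mk'_surjective N) V, ← hf, h]
    obtain ⟨hc, r, hr, hrpow⟩ := CfsgLib.minimal_normal_elementary hW0 inferInstance hmin
    refine ⟨r, hr, ⟨hNn, hM, hNM.le, hNM.ne, hchief, fun x hx => ?_, fun a ha b hb => ?_⟩⟩
    · refine (QuotientGroup.eq_one_iff _).1 ?_
      show f (x ^ r) = 1
      rw [map_pow]; exact hrpow _ ⟨x, hx, rfl⟩
    · refine (QuotientGroup.eq_one_iff _).1 ?_
      show f (a * b * a⁻¹ * b⁻¹) = 1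
      have h1 : f a * f b = f b * f a :=
        congrArg Subtype.val (hc.is_comm.comm ⟨f a, a, ha, rfl⟩ ⟨f b, b, hb, rfl⟩)
      rw [map_mul, map_mul, map_mul, h1, map_inv, map_inv]; group
  -- the degree step
  obtain ⟨φ, e', hφ, he'⟩ := hqp N hNn
  have he0 : (e : ℂ) ≠ 0 := fun h0 => irr_ne_zero hχ (by simpa [h0] using congrFun he 1)
  set N' := N.subgroupOf M with hN'
  haveI : Fintype N' := Fintype.ofFinite _
  let φ' : N' → ℂ := fun x => φ (Subgroup.subgroupOfEquivOfLe hNM.le x)
  have hφ' : IsIrrCharacter N' φ' := isIrrCharacter_comp_surjective hφ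
    (Subgroup.subgroupOfEquivOfLe hNM.le).toMonoidHom (Subgroup.subgroupOfEquivOfLe hNM.le).surjective
  obtain ⟨s, hs, hsdvd, hssq⟩ := ratio N' hθ hφ' (c := (e' : ℂ) / e) (by
    funext x
    have h1 : χ ((x : M) : G) = (e : ℂ) * θ x := congrFun he (x : M)
    have h2 : χ ((x : M) : G) = (e' : ℂ) * φ' x := congrFun he' (Subgroup.subgroupOfEquivOfLe hNM.le x)
    rw [Pi.smul_apply, smul_eq_mul, div_mul_eq_mul_div, eq_div_iff he0, mul_comm, ← h1, h2])
  have hidx : N'.index = N.relIndex M := rfl
  have hdeg : charDegree θ = s * charDegree φ := by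
    have h1 := (charDegree_spec' hθ).1
    rw [hs, show φ' 1 = φ 1 from congrArg φ (map_one _), (charDegree_spec' hφ).1, ← Nat.cast_mul] at h1
    exact_mod_cast h1.symm
  have hφ0 := (charDegree_spec' hφ).2
  have hs0 : s ≠ 0 := fun h0 => (charDegree_spec' hθ).2.ne' (by rw [hdeg, h0, zero_mul])
  obtain ⟨L₀, hL₀k, hL₀b, hL₀s⟩ := ih _ (lt_of_le_of_ne (Subgroup.card_le_of_le hNM.le) fun h =>
    hNM.ne (Subgroup.eq_of_le_of_card_ge hNM.le h.ge)) N rfl hNn φ e' hφ he'
  have hdegp : (charDegree θ).factorization p = s.factorization p + (charDegree φ).factorization p := by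
    rw [hdeg, Nat.factorization_mul hs0 hφ0.ne', Finsupp.add_apply]
  by_cases hrp : r = p
  · subst hrp
    obtain ⟨w, d, hw, hdk, hdb, hdsum⟩ := chief_gain hC
    refine ⟨fun g => L₀ g + d g, fun g k hk => by simp only [hL₀k g k hk, hdk g k hk],
      fun g => (Nat.add_le_add_right (hL₀b g) _).trans (hdb g), ?_⟩
    obtain ⟨i, -, hi⟩ := (Nat.dvd_prime_pow hr).1 (hidx.trans hw ▸ hsdvd)
    have hvs : s.factorization r = i := by
      rw [hi, Nat.factorization_pow, Finsupp.smul_apply, hr.factorization_self, smul_eq_mul, mul_one]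
    rw [hidx, hw, hi, ← pow_add] at hssq
    have h2i : i + i ≤ w := (Nat.pow_le_pow_iff_right hr.one_lt).1 hssq
    rw [hdegp, hvs, mul_add, Finset.sum_add_distrib]
    have : Fintype.card G * i ≤ ∑ g, d g := by
      rcases hdsum with h | h
      · rw [show i = 0 by omega, mul_zero]; exact Nat.zero_le _
      · have : Fintype.card G * (i + i) ≤ Fintype.card G * w := Nat.mul_le_mul_left _ h2i
        rw [mul_add] at this
        omega
    omega
  · haveI := Fact.mk hr
    refine ⟨L₀, hL₀k, fun g => (hL₀b g).trans ?_, ?_⟩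
    · have hd : (Subgroup.centralizer ({g} : Set G)).relIndex N ∣
          (Subgroup.centralizer ({g} : Set G)).relIndex M := by
        rw [← Subgroup.relIndex_subgroupOf hNM.le]
        exact CfsgLib.TIHall.relIndex_dvd_index_of_normal_right _ _
      exact (Nat.factorization_le_iff_dvd Subgroup.index_ne_zero_of_finite Subgroup.index_ne_zero_of_finite).2 hd p
    · obtain ⟨w, hw⟩ := InducedQuasiPrim.relIndex_prime_pow (K := N) hr hC.pow
      obtain ⟨i, -, hi⟩ := (Nat.dvd_prime_pow hr).1 (hidx.trans hw ▸ hsdvd)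
      have hvs : s.factorization p = 0 := by
        rw [hi]
        refine Nat.factorization_eq_zero_of_not_dvd fun hd => hrp ?_
        exact ((Nat.prime_dvd_prime_iff_eq hp.out hr).1 (hp.out.dvd_of_dvd_pow hd)).symm
      rw [hdegp, hvs, zero_add]
      exact hL₀s

/-- For a primitive character there is a function of the element, constant on the cosets of the
elements centralising the `p`-chief factors, below the class size and averaging at least the degree. -/
theorem main {χ : G → ℂ} (hχ : IsIrrCharacter G χ)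
    (hprim : ¬ ∃ (H : Subgroup G), H ≠ ⊤ ∧ ∃ θ : H → ℂ, IsCharacter H θ ∧ indFun H θ = χ) :
    ∃ L : G → ℕ, (∀ g, ∀ k ∈ (actKer p : Subgroup G), L (g * k) = L g) ∧
      (∀ g, L g ≤ ((Subgroup.centralizer ({g} : Set G)).index).factorization p) ∧
      ∃ g, (charDegree χ).factorization p ≤ L g := by
  classical
  have htop : IsIrrCharacter (⊤ : Subgroup G) (fun x : (⊤ : Subgroup G) => χ x) :=
    isIrrCharacter_comp_surjective hχ (⊤ : Subgroup G).subtype fun g => ⟨⟨g, Subgroup.mem_top g⟩, rfl⟩
  obtain ⟨L, hk, hb, hs⟩ := gain (p := p) hχ (fun N hN => quasiprimitive hχ hprim N) ⊤ inferInstance _ 1 htop (by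
    rw [Nat.cast_one, one_smul])
  refine ⟨L, hk, fun g => by rw [← Subgroup.relIndex_top_right]; exact hb g, ?_⟩
  by_contra hcon
  push Not at hcon
  have hlt : ∑ g, L g < ∑ _g : G, (charDegree χ).factorization p :=
    Finset.sum_lt_sum_of_nonempty Finset.univ_nonempty fun g _ => hcon g
  rw [Finset.sum_const, Finset.card_univ, smul_eq_mul] at hlt
  exact absurd (hs.trans_lt hlt) (lt_irrefl _)

end Main

section Metanilpotent

variable [Finite G] {p : ℕ} [hp : Fact p.Prime]

/-- In a metanilpotent group the `p`-elements centralise the chief factors of exponent `p`. -/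
theorem pElement_mem_actKer [Group.IsNilpotent (G ⧸ fittingSubgroup G)] {x : G} (hx : ∃ k, orderOf x = p ^ k) :
    x ∈ (actKer p : Subgroup G) := by
  classical
  intro N M h
  haveI := h.lower
  haveI := h.upper
  set F := fittingSubgroup G with hF
  set f := QuotientGroup.mk' N with hf
  have hsurj : Function.Surjective f := QuotientGroup.mk'_surjective N
  -- the Fitting subgroup centralises the factor
  have hFact : ∀ a ∈ F, ∀ m ∈ M, a * m * a⁻¹ * m⁻¹ ∈ N := by
    set W := M.map f with hW
    haveI : W.Normal := h.upper.map f hsurj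
    set F₁ := F.map f with hF₁
    haveI : F₁.Normal := (inferInstance : F.Normal).map f hsurj
    haveI : Group.IsNilpotent F₁ := by
      haveI := CfsgLib.isNilpotent_fittingSubgroup (G := G)
      exact Group.nilpotent_of_surjective (f.subgroupMap F) (f.subgroupMap_surjective F)
    have hWmin : ∀ V : Subgroup (G ⧸ N), V.Normal → V ≤ W → V = ⊥ ∨ V = W := by
      intro V hV hle
      have h1 : N ≤ V.comap f := fun y hy => by
        rw [Subgroup.mem_comap, hf, QuotientGroup.mk'_apply, (QuotientGroup.eq_one_iff y).2 hy]; exact one_mem V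
      have h2 : V.comap f ≤ M := by
        refine (Subgroup.comap_mono hle).trans ?_
        rw [hW, Subgroup.comap_map_eq, hf, QuotientGroup.ker_mk', sup_eq_left.2 h.le]
      rcases h.chief _ (hV.comap f) h1 h2 with h' | h'
      · left
        rw [← Subgroup.map_comap_eq_self_of_surjective hsurj V, h', hf, QuotientGroup.map_mk'_self]
      · right
        rw [← Subgroup.map_comap_eq_self_of_surjective hsurj V, h']
    have hcomm : ∀ a ∈ F₁, ∀ w ∈ W, a * w * a⁻¹ * w⁻¹ = 1 := by
      rcases hWmin (W ⊓ F₁) inferInstance inf_le_left with h' | h'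
      · intro a ha w hw
        rw [← Subgroup.mem_bot, ← h']
        refine Subgroup.mem_inf.2 ⟨mul_mem ((inferInstance : W.Normal).conj_mem w hw a) (inv_mem hw), ?_⟩
        have := mul_mem ha ((inferInstance : F₁.Normal).conj_mem a⁻¹ (inv_mem ha) w)
        simpa [mul_assoc] using this
      · have hWF : W ≤ F₁ := inf_eq_left.1 h'
        set Z := (Subgroup.center F₁).map F₁.subtype with hZ
        haveI : Z.Normal := inferInstance
        have hWne : W ≠ ⊥ := by
          rw [hW, Ne, Subgroup.map_eq_bot_iff, hf, QuotientGroup.ker_mk']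
          exact fun h'' => h.ne (le_antisymm h.le h'')
        have hne : W ⊓ Z ≠ ⊥ := by
          haveI : (W.subgroupOf F₁).Normal := Subgroup.Normal.subgroupOf inferInstance F₁
          have hne' : W.subgroupOf F₁ ≠ ⊥ := by
            rw [Ne, Subgroup.subgroupOf_eq_bot, disjoint_iff, inf_eq_left.2 hWF]; exact hWne
          obtain ⟨⟨z, hz⟩, hz1⟩ := Subgroup.ne_bot_iff_exists_ne_one.1
            (CfsgLib.inf_center_ne_bot_of_nilpotent hne')
          intro hb
          refine hz1 (Subtype.ext (Subtype.ext (Subgroup.mem_bot.1 (hb ▸ ?_))))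
          exact Subgroup.mem_inf.2 ⟨(Subgroup.mem_inf.1 hz).1, z, (Subgroup.mem_inf.1 hz).2, rfl⟩
        intro a ha w hw
        have hwZ : w ∈ Z := (((hWmin (W ⊓ Z) inferInstance inf_le_left).resolve_left hne).symm ▸ hw : w ∈ W ⊓ Z).2
        obtain ⟨z, hz, rfl⟩ := hwZ
        have h1 : a * (z : G ⧸ N) = z * a := congrArg Subtype.val (Subgroup.mem_center_iff.1 hz ⟨a, ha⟩)
        show a * (z : G ⧸ N) * a⁻¹ * (z : G ⧸ N)⁻¹ = 1
        rw [h1]; group
    intro a ha m hm
    refine (QuotientGroup.eq_one_iff _).1 ?_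
    show f (a * m * a⁻¹ * m⁻¹) = 1
    rw [map_mul, map_mul, map_mul, map_inv, map_inv]
    exact hcomm _ ⟨a, ha, rfl⟩ _ ⟨m, hm, rfl⟩
  obtain ⟨W, _, _, ρ, hnt, hWp, -, hirr, hker, -⟩ := chief_model h
  refine (hker x).1 ?_
  have hFker : F ≤ ρ.ker := fun a ha => (hker a).2 (hFact a ha)
  haveI : Group.IsNilpotent ρ.range :=
    Group.nilpotent_of_surjective (QuotientGroup.lift F ρ.rangeRestrict (by rwa [MonoidHom.ker_rangeRestrict]))
      fun y => by
        obtain ⟨g, hg⟩ := ρ.rangeRestrict_surjective y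
        exact ⟨(g : G ⧸ F), hg⟩
  obtain ⟨P⟩ : Nonempty (Sylow p ρ.range) := inferInstance
  have hPn : (P : Subgroup ρ.range).Normal :=
    Sylow.normal_of_normalizerCondition Group.normalizerCondition_of_isNilpotent P
  set A := (P : Subgroup ρ.range).map ρ.range.subtype with hA
  have hA0 : A = ⊥ := by
    refine eq_bot_of_fixed (Γ := ρ.range) ?_ (fun U hU => hirr U fun g => hU _ ⟨g, rfl⟩)
      (fixedBy_ne_bot hWp (P.isPGroup'.map _))
    rintro g hg _ ⟨a, ha, rfl⟩
    exact ⟨(⟨g, hg⟩ : ρ.range)⁻¹ * a * ⟨g, hg⟩, hPn.conj_mem' a ha ⟨g, hg⟩, rfl⟩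
  have hmem : ρ.rangeRestrict x ∈ (P : Subgroup ρ.range) := by
    obtain ⟨k, hk⟩ := hx
    have hpg : IsPGroup p (Subgroup.zpowers (ρ.rangeRestrict x)) := by
      obtain ⟨i, -, hi⟩ := (Nat.dvd_prime_pow hp.out).1 (hk ▸ orderOf_map_dvd ρ.rangeRestrict x)
      exact IsPGroup.of_card (n := i) (by rw [Nat.card_zpowers, hi])
    obtain ⟨Q, hQ⟩ := hpg.exists_le_sylow
    haveI : Subsingleton (Sylow p ρ.range) := (Sylow.unique_of_normal P hPn).instSubsingleton
    rw [Subsingleton.elim P Q]
    exact hQ (Subgroup.mem_zpowers _)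
  have : (ρ x : MulAut W) ∈ A := ⟨_, hmem, rfl⟩
  rwa [hA0, Subgroup.mem_bot] at this

end Metanilpotent

end CfsgLib.PrimClass
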